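import Cfsg.Agent.Lib.FixedPairs.Module
import Cfsg.Agent.Lib.Coprime.Action
import Cfsg.Agent.Lib.Coprime.Commutator

/-!
A Sylow subgroup with a normal complement, generated by two sets whose conjugate pairs generate
`p`-groups, centralises the complement.
-/

set_option autoImplicit false

namespace CfsgLib.FixedPairs

open scoped Pointwise

variable {G : Type*} [Group G] [Finite G] {p : ℕ} [hp : Fact p.Prime]

theorem pow_conj {g k : G} (hu : g * (g * k * g⁻¹ * k⁻¹) * g⁻¹ = g * k * g⁻¹ * k⁻¹) :
    ∀ n : ℕ, g ^ n * k * (g ^ n)⁻¹ = (g * k * g⁻¹ * k⁻¹) ^ n * k := by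
  intro n
  induction n with
  | zero => simp
  | succ n ih =>
    have h1 : g * ((g * k * g⁻¹ * k⁻¹) ^ n) * g⁻¹ = (g * k * g⁻¹ * k⁻¹) ^ n := by
      rw [← conj_pow, hu]
    rw [show g ^ (n + 1) * k * (g ^ (n + 1))⁻¹ = g * (g ^ n * k * (g ^ n)⁻¹) * g⁻¹ by
      rw [pow_succ']; group, ih,
      show g * ((g * k * g⁻¹ * k⁻¹) ^ n * k) * g⁻¹ =
        g * (g * k * g⁻¹ * k⁻¹) ^ n * g⁻¹ * ((g * k * g⁻¹ * k⁻¹) * k) by group, h1, pow_succ]
    simp only [mul_assoc]

theorem centralizes (hp3 : 3 ≤ p) {P N : Subgroup G} (hP : IsPGroup p P)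
    (hN : (Nat.card N).Coprime p) {C D : Set G} (hC : Subgroup.closure C = P)
    (hD : Subgroup.closure D = P)
    (h : ∀ x ∈ N, ∀ c ∈ C, ∀ d ∈ D, IsPGroup p ↥(Subgroup.closure ({x * c * x⁻¹, d} : Set G))) :
    ∀ n : ℕ, ∀ K : Subgroup G, K ≤ N → (∀ g ∈ P, ∀ k ∈ K, g * k * g⁻¹ ∈ K) → Nat.card K ≤ n →
      ∀ g ∈ P, ∀ k ∈ K, g * k * g⁻¹ = k := by
  intro n
  induction n using Nat.strong_induction_on with
  | _ n ih =>
    intro K hKN hinv hn g hg k hk
    have hcopK : (Nat.card K).Coprime p := hN.coprime_dvd_left (Subgroup.card_dvd_of_le hKN)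
    have hcopKP : ∀ U : Subgroup G, IsPGroup p U → (Nat.card U).Coprime (Nat.card K) := by
      intro U hU
      obtain ⟨j, hj⟩ := IsPGroup.iff_card.1 hU
      rw [hj]
      exact hcopK.symm.pow_left j
    have hPK : P ≤ Subgroup.normalizer (K : Set G) :=
      Subgroup.le_normalizer_iff.2 fun a ha y hy => hinv a ha y hy
    have hdisj : ∀ u ∈ P, u ∈ K → u = 1 := fun u hu1 hu2 => by
      have hb := Subgroup.inf_eq_bot_of_coprime (hcopKP P hP)
      exact Subgroup.mem_bot.1 (hb ▸ Subgroup.mem_inf.2 ⟨hu1, hu2⟩)
    have hsplit : ∀ x ∈ K, ∀ c ∈ C, ∀ d ∈ D, ∃ y ∈ K, d * y = y * d ∧ c * (y⁻¹ * x) = y⁻¹ * x * c := by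
      intro x hx c hc d hd
      have hcP : c ∈ P := hC ▸ Subgroup.subset_closure hc
      have hdP : d ∈ P := hD ▸ Subgroup.subset_closure hd
      set U := Subgroup.closure ({x * c * x⁻¹, d} : Set G) with hU
      have hUp : IsPGroup p U := h x (hKN hx) c hc d hd
      have hUle : U ≤ P ⊔ K := by
        rw [hU, Subgroup.closure_le]
        rintro y (rfl | rfl)
        · exact mul_mem (mul_mem (Subgroup.mem_sup_right hx) (Subgroup.mem_sup_left hcP))
            (inv_mem (Subgroup.mem_sup_right hx))
        · exact Subgroup.mem_sup_left hdP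
      have : Group.IsNilpotent U := hUp.isNilpotent
      obtain ⟨w, hw, hwle⟩ := CfsgLib.Coprime.exists_conj_le_of_coprime P K hPK (hcopKP P hP) U hUle
        (hcopKP U hUp) (Or.inl inferInstance)
      have key : ∀ a ∈ P, ∀ v ∈ K, v * a * v⁻¹ ∈ P → a * v = v * a := by
        intro a ha v hv hva
        have h1 : v * a * v⁻¹ * a⁻¹ = 1 := hdisj _ (mul_mem hva (inv_mem ha)) (by
          rw [show v * a * v⁻¹ * a⁻¹ = v * (a * v⁻¹ * a⁻¹) by group]
          exact mul_mem hv (hinv a ha _ (inv_mem hv)))
        rw [mul_inv_eq_one, mul_inv_eq_iff_eq_mul] at h1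
        exact h1.symm
      have hwd : w * d * w⁻¹ ∈ P := hwle ⟨d, Subgroup.subset_closure (by simp), rfl⟩
      have hwc : w * (x * c * x⁻¹) * w⁻¹ ∈ P := hwle ⟨_, Subgroup.subset_closure (by simp), rfl⟩
      have e1 : d * w = w * d := key d hdP w hw hwd
      have e2 : c * (w * x) = w * x * c := key c hcP (w * x) (mul_mem hw hx) (by
        rwa [show w * x * c * (w * x)⁻¹ = w * (x * c * x⁻¹) * w⁻¹ by group])
      refine ⟨w⁻¹, inv_mem hw, ((show Commute d w from e1).inv_right).eq, ?_⟩
      rwa [inv_inv]
    -- the derived subgroup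
    set K' : Subgroup G := (commutator K).map K.subtype with hK'
    have hK'le : K' ≤ K := Subgroup.map_subtype_le _
    have hconjK : ∀ a : P, ∀ v : K, (a : G) * v * (a : G)⁻¹ ∈ K := fun a v => hinv a a.2 v v.2
    let f : P → (K →* K) := fun a =>
      { toFun := fun v => ⟨(a : G) * v * (a : G)⁻¹, hconjK a v⟩
        map_one' := Subtype.ext (by simp)
        map_mul' := fun u v => Subtype.ext (by simp [mul_assoc]) }
    rcases eq_or_lt_of_le hK'le with hperf | hlt
    · by_cases hK1 : K = ⊥
      · subst hK1
        rw [Subgroup.mem_bot] at hk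
        subst hk
        simp
      have hperf' : commutator K = ⊤ := by
        apply Subgroup.map_injective K.subtype_injective
        rw [← hK', hperf, ← MonoidHom.range_eq_map, Subgroup.range_subtype]
      have hcen : ∀ r : ℕ, r.Prime → ∃ Q : Sylow r K,
          (Q : Subgroup K).map K.subtype ≤ Subgroup.centralizer (P : Set G) := by
        intro r hr
        haveI := Fact.mk hr
        have : Group.IsNilpotent P := hP.isNilpotent
        obtain ⟨Q, hQ⟩ := CfsgLib.Coprime.exists_invariant_sylow P K hPK (hcopKP P hP)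
          (Or.inl inferInstance) r
        refine ⟨Q, ?_⟩
        set Q' := (Q : Subgroup K).map K.subtype with hQ'
        have hQK : Q' ≤ K := Subgroup.map_subtype_le _
        have hne : Q' ≠ K := by
          intro he
          have htop : (Q : Subgroup K) = ⊤ := by
            apply Subgroup.map_injective K.subtype_injective
            rw [← hQ', he, ← MonoidHom.range_eq_map, Subgroup.range_subtype]
          have hKr : IsPGroup r K := (htop ▸ Q.isPGroup').of_equiv Subgroup.topEquiv
          have : Group.IsNilpotent K := hKr.isNilpotent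
          have : Nontrivial K := (Subgroup.nontrivial_iff_ne_bot K).2 hK1
          exact (Group.IsSolvable.commutator_lt_top_of_nontrivial K).ne hperf'
        have hcard : Nat.card Q' < Nat.card K :=
          lt_of_le_of_ne (Subgroup.card_le_of_le hQK) fun e => hne (Subgroup.eq_of_le_of_card_ge hQK e.ge)
        have hinvQ : ∀ a ∈ P, ∀ v ∈ Q', a * v * a⁻¹ ∈ Q' := fun a ha v hv =>
          (Subgroup.mem_normalizer_iff.1 (hQ ha) v).1 hv
        intro v hv
        refine Subgroup.mem_centralizer_iff.2 fun a ha => ?_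
        exact mul_inv_eq_iff_eq_mul.1 (ih _ (lt_of_lt_of_le hcard hn) Q' (hQK.trans hKN) hinvQ le_rfl a ha v hv)
      have hle : K ≤ Subgroup.centralizer (P : Set G) := by
        have hdvd : Nat.card K ∣ Nat.card (K ⊓ Subgroup.centralizer (P : Set G) : Subgroup G) := by
          rw [← Nat.factorization_le_iff_dvd Nat.card_pos.ne' Nat.card_pos.ne']
          intro r
          by_cases hr : r.Prime
          · haveI := Fact.mk hr
            obtain ⟨Q, hQ⟩ := hcen r hr
            have h1 : r ^ (Nat.card K).factorization r ∣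
                Nat.card (K ⊓ Subgroup.centralizer (P : Set G) : Subgroup G) := by
              rw [← Q.card_eq_multiplicity, ← Subgroup.card_subtype K]
              exact Subgroup.card_dvd_of_le (le_inf (Subgroup.map_subtype_le _) hQ)
            exact (hr.pow_dvd_iff_le_factorization Nat.card_pos.ne').1 h1
          · simp [Nat.factorization_eq_zero_of_not_prime _ hr]
        have he : K ⊓ Subgroup.centralizer (P : Set G) = K :=
          Subgroup.eq_of_le_of_card_ge inf_le_left (Nat.le_of_dvd Nat.card_pos hdvd)
        exact he ▸ inf_le_right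
      exact mul_inv_eq_iff_eq_mul.2 (Subgroup.mem_centralizer_iff.1 (hle hk) g hg)
    · have hcard : Nat.card K' < Nat.card K :=
        lt_of_le_of_ne (Subgroup.card_le_of_le hK'le) fun e =>
          hlt.ne (Subgroup.eq_of_le_of_card_ge hK'le e.ge)
      have hinv' : ∀ a ∈ P, ∀ v ∈ K', a * v * a⁻¹ ∈ K' := by
        intro a ha v hv
        obtain ⟨v', hv', rfl⟩ := hv
        refine ⟨f ⟨a, ha⟩ v', ?_, rfl⟩
        have := Subgroup.mem_map_of_mem (f ⟨a, ha⟩) hv'
        rw [commutator_def, Subgroup.map_commutator] at this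
        exact Subgroup.commutator_mono le_top le_top this
      have ihK' := ih (Nat.card K') (lt_of_lt_of_le hcard hn) K' (hK'le.trans hKN) hinv' le_rfl
      let act : DistribMulAction P (Additive (Abelianization K)) :=
        { smul := fun a x => Additive.ofMul (Abelianization.map (f a) x.toMul)
          one_smul := fun x => by
            refine QuotientGroup.induction_on (Additive.toMul x) (fun v => ?_) |> fun h =>
              (show Abelianization.map (f 1) x.toMul = x.toMul from h)
            show Abelianization.of (f 1 v) = Abelianization.of v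
            exact congrArg _ (Subtype.ext (by simp [f]))
          mul_smul := fun a b x => by
            refine QuotientGroup.induction_on (Additive.toMul x) (fun v => ?_) |> fun h =>
              (show Abelianization.map (f (a * b)) x.toMul =
                Abelianization.map (f a) (Abelianization.map (f b) x.toMul) from h)
            show Abelianization.of (f (a * b) v) = Abelianization.of (f a (f b v))
            exact congrArg _ (Subtype.ext (by simp [f, mul_assoc]))
          smul_zero := fun a => congrArg Additive.ofMul (map_one (Abelianization.map (f a)))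
          smul_add := fun a x y =>
            congrArg Additive.ofMul (map_mul (Abelianization.map (f a)) x.toMul y.toMul) }
      have hsm : ∀ (a : P) (v : K), (a • Additive.ofMul (Abelianization.of v) :
          Additive (Abelianization K)) = Additive.ofMul (Abelianization.of (f a v)) := fun a v => rfl
      have hCP : Subgroup.closure {a : P | (a : G) ∈ C} = ⊤ := by
        apply Subgroup.map_injective P.subtype_injective
        rw [MonoidHom.map_closure, ← MonoidHom.range_eq_map, Subgroup.range_subtype]
        have hCs : P.subtype '' {a : P | (a : G) ∈ C} = C := Set.ext fun y =>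
          ⟨fun ⟨a, ha, e⟩ => e ▸ ha, fun hy => ⟨⟨y, hC ▸ Subgroup.subset_closure hy⟩, hy, rfl⟩⟩
        rw [hCs, hC]
      have hDP : Subgroup.closure {a : P | (a : G) ∈ D} = ⊤ := by
        apply Subgroup.map_injective P.subtype_injective
        rw [MonoidHom.map_closure, ← MonoidHom.range_eq_map, Subgroup.range_subtype]
        have hDs : P.subtype '' {a : P | (a : G) ∈ D} = D := Set.ext fun y =>
          ⟨fun ⟨a, ha, e⟩ => e ▸ ha, fun hy => ⟨⟨y, hD ▸ Subgroup.subset_closure hy⟩, hy, rfl⟩⟩
        rw [hDs, hD]
      have hpairs : Pairs {a : P | (a : G) ∈ C} {a : P | (a : G) ∈ D} (Additive (Abelianization K)) := by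
        intro c hc d hd x
        obtain ⟨x', hx'⟩ := QuotientGroup.mk_surjective (Additive.toMul x)
        obtain ⟨y, hy, e1, e2⟩ := hsplit x' x'.2 c hc d hd
        refine ⟨Additive.ofMul (Abelianization.of ⟨y, hy⟩), ?_, ?_⟩
        · rw [hsm]
          refine congrArg (fun v => Additive.ofMul (Abelianization.of v)) (Subtype.ext ?_)
          show (d : G) * y * (d : G)⁻¹ = y
          rw [e1, mul_inv_cancel_right]
        · have hx : x - Additive.ofMul (Abelianization.of (⟨y, hy⟩ : K)) =
              Additive.ofMul (Abelianization.of (⟨y, hy⟩⁻¹ * x')) := by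
            apply Additive.toMul.injective
            rw [toMul_sub, toMul_ofMul, toMul_ofMul, map_mul, map_inv, div_eq_inv_mul]
            exact congrArg _ hx'.symm
          rw [hx, hsm]
          refine congrArg (fun v => Additive.ofMul (Abelianization.of v)) (Subtype.ext ?_)
          show (c : G) * (y⁻¹ * (x' : G)) * (c : G)⁻¹ = y⁻¹ * (x' : G)
          rw [e2, mul_inv_cancel_right]
      have hcopA : (Nat.card (Additive (Abelianization K))).Coprime p :=
        hcopK.coprime_dvd_left (by
          show Nat.card (K ⧸ commutator K) ∣ Nat.card K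
          exact Subgroup.card_quotient_dvd_card _)
      have htriv := trivial_of_pairs hp3 hP hcopA hCP hDP hpairs ⟨g, hg⟩
        (Additive.ofMul (Abelianization.of ⟨k, hk⟩))
      rw [hsm] at htriv
      have hu : g * k * g⁻¹ * k⁻¹ ∈ K' := by
        have h1 : (f ⟨g, hg⟩ ⟨k, hk⟩) * (⟨k, hk⟩ : K)⁻¹ ∈ commutator K := by
          rw [← QuotientGroup.eq_one_iff, QuotientGroup.mk_mul, QuotientGroup.mk_inv, mul_inv_eq_one]
          exact congrArg Additive.toMul htriv
        exact ⟨_, h1, rfl⟩
      obtain ⟨j, hj⟩ := hP ⟨g, hg⟩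
      have hj' : g ^ p ^ j = 1 := congrArg Subtype.val hj
      have h1 := pow_conj (ihK' g hg _ hu) (p ^ j)
      rw [hj', one_mul, inv_one, mul_one, eq_comm, mul_eq_right] at h1
      have h2 : orderOf (g * k * g⁻¹ * k⁻¹) = 1 := by
        refine Nat.eq_one_of_dvd_coprimes (hcopK.pow_right j) ?_ (orderOf_dvd_of_pow_eq_one h1)
        exact Subgroup.orderOf_dvd_natCard K (hK'le hu)
      exact mul_inv_eq_one.1 (orderOf_eq_one_iff.1 h2)

end CfsgLib.FixedPairs
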