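import Cfsg.Agent.S0126
import Cfsg.Agent.Lib.Coprime.HyperplaneGeneration

/-!
A `p`-group, `p` odd, on an abelian `p'`-group `V`: if it has generating sets `C`, `D` with
`V = C_V(c) + C_V(d)` for all `c ∈ C`, `d ∈ D`, then it acts trivially.
-/

set_option autoImplicit false

namespace CfsgLib.FixedPairs

variable {Q V : Type*} [Group Q] [AddCommGroup V] [DistribMulAction Q V] {p m : ℕ}

/-- The averaging operator of an element of order dividing `p`; `m` is an inverse of `p` on `V`. -/
def avg (p m : ℕ) (g : Q) : V →+ V where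
  toFun x := m • ∑ t ∈ Finset.range p, g ^ t • x
  map_zero' := by simp
  map_add' x y := by simp [Finset.sum_add_distrib, smul_add]

theorem avg_apply (g : Q) (x : V) : avg p m g x = m • ∑ t ∈ Finset.range p, g ^ t • x := rfl

theorem smul_avg {g : Q} (hg : g ^ p = 1) (x : V) : g • avg p m g x = avg p m g x := by
  rw [avg_apply, smul_comm g m, Finset.smul_sum]
  congr 1
  have h1 := Finset.sum_range_succ' (fun t => g ^ t • x) p
  rw [Finset.sum_range_succ, pow_zero, hg, add_right_cancel_iff] at h1
  rw [h1]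
  exact Finset.sum_congr rfl fun t _ => by rw [pow_succ', mul_smul]

theorem avg_fixed (hm : ∀ x : V, (m * p) • x = x) {g : Q} {x : V} (h : g • x = x) :
    avg p m g x = x := by
  rw [avg_apply, Finset.sum_congr rfl (g := fun _ => x) (fun t _ => ?_), Finset.sum_const,
    Finset.card_range, ← mul_smul, hm]
  induction t with
  | zero => rw [pow_zero, one_smul]
  | succ t ih => rw [pow_succ, mul_smul, h, ih (by simp_all; omega)]

theorem avg_conj (c g : Q) (x : V) : c • avg p m g x = avg p m (c * g * c⁻¹) (c • x) := by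
  rw [avg_apply, avg_apply, smul_comm c m, Finset.smul_sum]
  congr 1
  refine Finset.sum_congr rfl fun t _ => ?_
  rw [conj_pow, mul_smul, mul_smul, inv_smul_smul]

/-- The hypothesis: `V` is the sum of the fixed points of `c` and `d`. -/
def Pairs (C D : Set Q) (V : Type*) [AddCommGroup V] [DistribMulAction Q V] : Prop :=
  ∀ c ∈ C, ∀ d ∈ D, ∀ x : V, ∃ v, d • v = v ∧ c • (x - v) = x - v

/-- The core: a faithful action without equivariant idempotent is impossible. -/
theorem core [Finite Q] [Finite V] [hp : Fact p.Prime] (hp3 : 3 ≤ p) (hQ : IsPGroup p Q)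
    (hcop : (Nat.card V).Coprime p) (hfaith : ∀ g : Q, (∀ x : V, g • x = x) → g = 1)
    (hsplit : ∀ e : V →+ V, (∀ x, e (e x) = e x) → (∀ (g : Q) x, e (g • x) = g • e x) →
      (∀ x, e x = 0) ∨ ∀ x, e x = x)
    {C D : Set Q} (hC : Subgroup.closure C = ⊤) (hD : Subgroup.closure D = ⊤) (h : Pairs C D V) :
    ∀ g : Q, g = 1 := by
  classical
  by_contra hne
  push Not at hne
  obtain ⟨g0, hg0⟩ := hne
  have : Nontrivial Q := ⟨⟨g0, 1, hg0⟩⟩
  obtain ⟨m, hm⟩ : ∃ m : ℕ, ∀ x : V, (m * p) • x = x := by
    obtain ⟨m, -, hm⟩ := Nat.exists_mul_mod_eq_of_coprime 1 hcop.symm Nat.card_pos.ne'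
    refine ⟨m, fun x => ?_⟩
    conv_rhs => rw [← one_nsmul x]
    refine nsmul_eq_nsmul_iff_modEq.2 (Nat.ModEq.of_dvd (addOrderOf_dvd_natCard x) ?_)
    rw [mul_comm]
    exact hm
  have hcentral : ∀ z : Q, z ∈ Subgroup.center Q → z ^ p = 1 → z ≠ 1 → ∀ x : V, avg p m z x = 0 := by
    intro z hz hzp hz1
    refine (hsplit (avg p m z) (fun x => avg_fixed hm (smul_avg hzp x)) fun g x => ?_).resolve_right
      fun hid => hz1 (hfaith z fun x => by rw [← hid x, smul_avg hzp x])
    rw [avg_conj g z x, Subgroup.mem_center_iff.1 hz g, mul_inv_cancel_right]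
  have hfix : ∀ z : Q, z ∈ Subgroup.center Q → z ^ p = 1 → z ≠ 1 → ∀ x : V, z • x = x → x = 0 :=
    fun z hz hzp hz1 x hx => (avg_fixed hm hx).symm.trans (hcentral z hz hzp hz1 x)
  have hV : ¬ ∀ x : V, x = 0 := fun hz =>
    hg0 (hfaith g0 fun x => (hz (g0 • x)).trans (hz x).symm)
  have hQdvd : p ∣ Nat.card Q := by
    obtain ⟨n, hn⟩ := IsPGroup.iff_card.1 hQ
    rw [hn]
    refine dvd_pow_self p fun h0 => ?_
    have := Finite.one_lt_card (α := Q)
    rw [hn, h0] at this
    simp at this
  by_cases hcyc : IsCyclic Q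
  · obtain ⟨z, hzp⟩ := exists_prime_orderOf_dvd_card' p hQdvd
    have hzc : z ∈ Subgroup.center Q :=
      Subgroup.mem_center_iff.2 fun g => (IsCyclic.isMulCommutative (α := Q)).is_comm.comm g z
    have hzpow : z ^ p = 1 := hzp ▸ pow_orderOf_eq_one z
    have hz1 : z ≠ 1 := fun e => hp.out.one_lt.ne (by rw [← hzp, e, orderOf_one])
    have key : ∀ S : Set Q, Subgroup.closure S = ⊤ → ∃ c ∈ S, ∀ x : V, c • x = x → x = 0 := by
      intro S hS
      obtain ⟨w, hw⟩ := IsCyclic.exists_generator (α := Q)
      obtain ⟨n, hn⟩ := (IsPGroup.iff_card.1 hQ)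
      let M : Subgroup Q := Subgroup.zpowers (w ^ p)
      obtain ⟨c, hcS, hcM⟩ : ∃ c ∈ S, c ∉ M := by
        by_contra hall
        push Not at hall
        have htop : M = ⊤ := eq_top_iff.2 (hS ▸ (Subgroup.closure_le M).2 hall)
        have hcard : Nat.card M = Nat.card Q := by rw [htop, Subgroup.card_top]
        rw [Nat.card_zpowers, ← orderOf_eq_card_of_forall_mem_zpowers hw, orderOf_pow] at hcard
        have hdvd : p ∣ orderOf w := by
          rw [orderOf_eq_card_of_forall_mem_zpowers hw]
          exact hQdvd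
        rw [Nat.gcd_eq_right hdvd] at hcard
        have := Nat.div_lt_self (orderOf_pos w) hp.out.one_lt
        omega
      refine ⟨c, hcS, fun x hx => hfix z hzc hzpow hz1 x ?_⟩
      obtain ⟨i, rfl⟩ := (Submonoid.mem_powers_iff _ _).1 (mem_powers_iff_mem_zpowers.2 (hw c))
      have hpi : (orderOf w).gcd i = 1 := by
        refine Nat.Coprime.gcd_eq_one ?_
        rw [orderOf_eq_card_of_forall_mem_zpowers hw, hn]
        refine (hp.out.coprime_iff_not_dvd.2 fun ⟨j, hj⟩ => hcM ?_).pow_left n
        exact Subgroup.mem_zpowers_iff.2 ⟨j, by rw [zpow_natCast, ← pow_mul, ← hj]⟩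
      obtain ⟨j, hj⟩ := exists_pow_eq_self_of_coprime (x := w) (n := i) (Nat.Coprime.symm hpi)
      obtain ⟨k, hk⟩ := (Submonoid.mem_powers_iff _ _).1 (mem_powers_iff_mem_zpowers.2 (hw z))
      have : ∀ k : ℕ, (w ^ i) ^ k • x = x := by
        intro k
        induction k with
        | zero => rw [pow_zero, one_smul]
        | succ k ih => rw [pow_succ, mul_smul, hx, ih]
      rw [← hk, ← hj, ← pow_mul]
      exact this _
    obtain ⟨c, hc, hc'⟩ := key C hC
    obtain ⟨d, hd, hd'⟩ := key D hD
    refine hV fun x => ?_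
    obtain ⟨v, hv1, hv2⟩ := h c hc d hd x
    have := hc' _ hv2
    rwa [hd' v hv1, sub_zero] at this
  obtain ⟨E, hEn, ⟨hEab, hEexp⟩, hEc⟩ :=
    Cfsg.Agent.S0126.result (R := Q) (p := p) (by omega) hQ hcyc
  have hEcomm : ∀ a ∈ E, ∀ b ∈ E, a * b = b * a := fun a ha b hb =>
    congrArg Subtype.val (hEab.is_comm.comm ⟨a, ha⟩ ⟨b, hb⟩)
  have hEp : ∀ a ∈ E, a ^ p = 1 := hEexp
  obtain ⟨z, hzE, hzc, hz1⟩ : ∃ z ∈ E, z ∈ Subgroup.center Q ∧ z ≠ 1 := by
    have : Group.IsNilpotent Q := hQ.isNilpotent
    have hE : E ≠ ⊥ := fun e => by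
      rw [e, Subgroup.card_bot] at hEc
      exact absurd hEc (Nat.one_lt_pow two_ne_zero hp.out.one_lt).ne
    exact CfsgLib.Coprime39.exists_central_mem E hE
  have hzp := hEp z hzE
  have hzord : orderOf z = p := orderOf_eq_prime hzp hz1
  have hzmod : ∀ n : ℕ, z ^ (n % p) = z ^ n := fun n => by
    conv_rhs => rw [← pow_mod_orderOf, hzord]
  obtain ⟨k, hkE, hkz⟩ : ∃ k ∈ E, k ∉ Subgroup.zpowers z := by
    by_contra hall
    push Not at hall
    have := Subgroup.card_le_of_le (show E ≤ Subgroup.zpowers z from hall)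
    rw [Nat.card_zpowers, hzord, hEc] at this
    exact absurd this (not_le.2 (lt_self_pow₀ hp.out.one_lt (by norm_num)))
  let K : ZMod p → Q := fun i => k * z ^ i.val
  have hKE : ∀ i, K i ∈ E := fun i => mul_mem hkE (pow_mem hzE _)
  have hK1 : ∀ i, K i ≠ 1 := fun i e => hkz (by
    rw [eq_inv_of_mul_eq_one_left e]
    exact inv_mem (pow_mem (Subgroup.mem_zpowers z) _))
  let e : ZMod p → V →+ V := fun i => avg p m (K i)
  have hfixe : ∀ i x, K i • e i x = e i x := fun i x => smul_avg (hEp _ (hKE i)) x
  have hsum : ∀ x : V, ∑ i, e i x = x := by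
    intro x
    have hexp : ∀ t : ℕ, t ∈ Finset.range p →
        ∑ i : ZMod p, K i ^ t • x = if t = 0 then p • x else 0 := by
      intro t ht
      split_ifs with h0
      · simp [h0, ZMod.card]
      have hz' : z ^ t ≠ 1 := fun e => by
        have := Nat.le_of_dvd (Nat.pos_of_ne_zero h0) (hzord ▸ orderOf_dvd_of_pow_eq_one e)
        rw [Finset.mem_range] at ht
        omega
      have hzero := hcentral (z ^ t) (pow_mem hzc t) (by rw [← pow_mul, mul_comm, pow_mul, hzp, one_pow]) hz' x
      rw [avg_apply] at hzero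
      have hzero' : ∑ j ∈ Finset.range p, (z ^ t) ^ j • x = 0 := by
        have h2 := congrArg (fun y => p • y) hzero
        simpa only [← mul_smul, mul_comm p m, hm, smul_zero] using h2
      calc ∑ i : ZMod p, K i ^ t • x = k ^ t • ∑ i : ZMod p, (z ^ t) ^ i.val • x := by
            rw [Finset.smul_sum]
            refine Finset.sum_congr rfl fun i _ => ?_
            rw [← mul_smul]
            congr 1
            show (k * z ^ i.val) ^ t = _
            rw [((Commute.pow_right (hEcomm k hkE z hzE) _)).mul_pow, ← pow_mul, mul_comm, pow_mul]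
        _ = 0 := by
            rw [← smul_zero (k ^ t), ← hzero']
            congr 1
            refine Finset.sum_nbij' (fun i => i.val) (fun j => (j : ZMod p))
              (fun i _ => Finset.mem_range.2 (ZMod.val_lt i)) (fun j _ => Finset.mem_univ _)
              (fun i _ => ZMod.natCast_zmod_val i)
              (fun j hj => ZMod.val_cast_of_lt (Finset.mem_range.1 hj)) fun i _ => rfl
    simp only [e, avg_apply, ← Finset.smul_sum]
    rw [Finset.sum_comm, Finset.sum_congr rfl hexp, Finset.sum_ite_eq', if_pos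
      (Finset.mem_range.2 hp.out.pos), ← mul_smul, hm]
  have horth : ∀ i j x, i ≠ j → e j (e i x) = 0 := by
    intro i j x hij
    set y := e i x with hy
    have h1 : K i • e j y = e j y := by
      rw [show K i • e j y = avg p m (K i * K j * (K i)⁻¹) (K i • y) from avg_conj _ _ _,
        hEcomm _ (hKE i) _ (hKE j), mul_inv_cancel_right, hy, hfixe i x]
    have h2 := hfixe j y
    have hw : ((z ^ i.val)⁻¹ * z ^ j.val) • e j y = e j y := by
      rw [show (z ^ i.val)⁻¹ * z ^ j.val = (K i)⁻¹ * K j by simp [K, mul_assoc], mul_smul, h2,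
        inv_smul_eq_iff, h1]
    refine hfix ((z ^ i.val)⁻¹ * z ^ j.val) (mul_mem (inv_mem (pow_mem hzc _)) (pow_mem hzc _)) ?_ ?_ _ hw
    · rw [((Commute.pow_pow (Commute.refl z) _ _).inv_left).mul_pow, inv_pow, ← pow_mul, ← pow_mul,
        mul_comm, pow_mul, hzp, one_pow, inv_one, one_mul, mul_comm, pow_mul, hzp, one_pow]
    · intro e'
      rw [inv_mul_eq_one] at e'
      have := pow_injOn_Iio_orderOf (by simpa [hzord] using ZMod.val_lt i)
        (by simpa [hzord] using ZMod.val_lt j) e'
      exact hij (ZMod.val_injective p this)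
  by_cases hkc : k ∈ Subgroup.center Q
  · refine hV fun x => ?_
    rw [← hsum x]
    refine Finset.sum_eq_zero fun i _ => ?_
    refine (hsplit (e i) (fun x => avg_fixed hm (hfixe i x)) fun g x => ?_).resolve_right
      (fun hid => hK1 i (hfaith _ fun x => by rw [← hid x, hfixe i x])) x
    rw [show g • e i x = avg p m (g * K i * g⁻¹) (g • x) from avg_conj _ _ _,
      Subgroup.mem_center_iff.1 (mul_mem hkc (pow_mem hzc _)) g, mul_inv_cancel_right]
  -- the elements of `Q` shift `K`
  have hshift : ∀ g : Q, ∃ j : ZMod p, g * k * g⁻¹ = K j := by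
    intro g
    have hlin : ∀ y ∈ E, ∃ a b : ℕ, y = k ^ a * z ^ b := by
      let f : ZMod p × ZMod p → E := fun w =>
        ⟨k ^ w.1.val * z ^ w.2.val, mul_mem (pow_mem hkE _) (pow_mem hzE _)⟩
      have hf : Function.Injective f := by
        rintro ⟨a, b⟩ ⟨a', b'⟩ he
        have he' : k ^ a.val * z ^ b.val = k ^ a'.val * z ^ b'.val := congrArg Subtype.val he
        have ha : a = a' := by
          by_contra hne'
          apply hkz
          have hkp := hEp k hkE
          have hmem : k ^ ((a.val : ℤ) - a'.val) ∈ Subgroup.zpowers z := by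
            refine Subgroup.mem_zpowers_iff.2 ⟨(b'.val : ℤ) - b.val, ?_⟩
            rw [zpow_sub, zpow_sub, zpow_natCast, zpow_natCast, zpow_natCast, zpow_natCast,
              eq_mul_inv_iff_mul_eq, mul_assoc, ← (Commute.pow_pow (hEcomm k hkE z hzE) _ _).inv_right.eq,
              ← mul_assoc, ← (Commute.pow_pow (hEcomm k hkE z hzE) a'.val b'.val).eq, ← he',
              mul_inv_cancel_right]
          have hkord : orderOf k = p := orderOf_eq_prime hkp fun e => hkz (e ▸ one_mem _)
          have hcop' : IsCoprime ((a.val : ℤ) - a'.val) (p : ℤ) := by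
            refine ((Nat.prime_iff_prime_int.1 hp.out).coprime_iff_not_dvd.2 fun hd => hne' ?_).symm
            have := (ZMod.intCast_zmod_eq_zero_iff_dvd _ p).2 hd
            simpa [sub_eq_zero] using this
          obtain ⟨u, v, huv⟩ := hcop'
          rw [← zpow_one k, ← huv, zpow_add, zpow_mul', zpow_mul' k v, zpow_natCast, hkp, one_zpow, mul_one]
          exact zpow_mem hmem u
        subst ha
        have hb := pow_injOn_Iio_orderOf (x := z) (by simpa [hzord] using ZMod.val_lt b)
          (by simpa [hzord] using ZMod.val_lt b') (mul_left_cancel he')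
        rw [ZMod.val_injective p hb]
      have hbij := hf.bijective_of_nat_card_le (by rw [hEc, Nat.card_prod, Nat.card_zmod, sq])
      intro y hy
      obtain ⟨w, hw⟩ := hbij.2 ⟨y, hy⟩
      exact ⟨w.1.val, w.2.val, (congrArg Subtype.val hw).symm⟩
    obtain ⟨a, b, hab⟩ := hlin _ (hEn.conj_mem k hkE g)
    obtain ⟨n, hn⟩ := hQ g
    have hzg : g * z * g⁻¹ = z := by rw [Subgroup.mem_center_iff.1 hzc g, mul_inv_cancel_right]
    have hiter : ∀ j : ℕ, ∃ b' : ℕ, g ^ j * k * (g ^ j)⁻¹ = k ^ a ^ j * z ^ b' := by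
      intro j
      induction j with
      | zero => exact ⟨0, by simp⟩
      | succ j ih =>
        obtain ⟨b', hb'⟩ := ih
        refine ⟨b * a ^ j + b', ?_⟩
        rw [show g ^ (j + 1) * k * (g ^ (j + 1))⁻¹ = g * (g ^ j * k * (g ^ j)⁻¹) * g⁻¹ by
          rw [pow_succ']; group, hb']
        rw [show g * (k ^ a ^ j * z ^ b') * g⁻¹ = g * k ^ a ^ j * g⁻¹ * (g * z ^ b' * g⁻¹) by group,
          ← conj_pow, ← conj_pow, hzg, hab, (Commute.pow_pow (hEcomm k hkE z hzE) a b).mul_pow, ← pow_mul,
          ← pow_mul, mul_assoc, ← pow_add, pow_succ']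
    obtain ⟨b', hb'⟩ := hiter (p ^ n)
    rw [hn, one_mul, inv_one, mul_one] at hb'
    have ha1 : (a : ZMod p) = 1 := by
      have hmem : k ^ ((a ^ p ^ n : ℕ) - 1 : ℤ) ∈ Subgroup.zpowers z := by
        refine Subgroup.mem_zpowers_iff.2 ⟨-(b' : ℤ), ?_⟩
        rw [zpow_sub, zpow_natCast, zpow_one, zpow_neg, zpow_natCast, eq_mul_inv_iff_mul_eq,
          inv_mul_eq_iff_eq_mul]
        rw [← (Commute.pow_pow (hEcomm k hkE z hzE) (a ^ p ^ n) b').eq]
        exact hb'
      have hd : (p : ℤ) ∣ ((a ^ p ^ n : ℕ) - 1 : ℤ) := by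
        by_contra hd
        obtain ⟨u, v, huv⟩ := ((Nat.prime_iff_prime_int.1 hp.out).coprime_iff_not_dvd.2 hd).symm
        apply hkz
        rw [← zpow_one k, ← huv, zpow_add, zpow_mul', zpow_mul' k v, zpow_natCast, hEp k hkE, one_zpow,
          mul_one]
        exact zpow_mem hmem u
      have := (ZMod.intCast_zmod_eq_zero_iff_dvd _ p).2 hd
      simpa [sub_eq_zero, ZMod.pow_card_pow] using this
    refine ⟨(b : ZMod p), ?_⟩
    rw [hab]
    show k ^ a * z ^ b = k * z ^ (b : ZMod p).val
    have hk' : k ^ a = k := by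
      conv_rhs => rw [← pow_one k]
      refine pow_eq_pow_iff_modEq.2 ?_
      rw [orderOf_eq_prime (hEp k hkE) fun e => hkz (e ▸ one_mem _), ← ZMod.natCast_eq_natCast_iff]
      simpa using ha1
    rw [hk', ZMod.val_natCast, hzmod]
  obtain ⟨c, hcC, hck⟩ : ∃ c ∈ C, c * k * c⁻¹ ≠ k := by
    by_contra hall
    push Not at hall
    refine hkc (Subgroup.mem_center_iff.2 fun g => ?_)
    have hg : g ∈ Subgroup.closure C := by rw [hC]; trivial
    induction hg using Subgroup.closure_induction with
    | mem x hx => exact mul_inv_eq_iff_eq_mul.1 (hall x hx)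
    | one => simp
    | mul x y _ _ hx hy => rw [mul_assoc, hy, ← mul_assoc, hx, mul_assoc]
    | inv x _ hx => rw [inv_mul_eq_iff_eq_mul, ← mul_assoc, hx, mul_inv_cancel_right]
  obtain ⟨d, hdD, hdk⟩ : ∃ d ∈ D, d * k * d⁻¹ ≠ k := by
    by_contra hall
    push Not at hall
    refine hkc (Subgroup.mem_center_iff.2 fun g => ?_)
    have hg : g ∈ Subgroup.closure D := by rw [hD]; trivial
    induction hg using Subgroup.closure_induction with
    | mem x hx => exact mul_inv_eq_iff_eq_mul.1 (hall x hx)
    | one => simp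
    | mul x y _ _ hx hy => rw [mul_assoc, hy, ← mul_assoc, hx, mul_assoc]
    | inv x _ hx => rw [inv_mul_eq_iff_eq_mul, ← mul_assoc, hx, mul_inv_cancel_right]
  have hmove : ∀ (g : Q) (j : ZMod p), g * k * g⁻¹ = K j → ∀ i x, g • e i x = e (i + j) (g • x) := by
    intro g j hj i x
    rw [show g • e i x = avg p m (g * K i * g⁻¹) (g • x) from avg_conj _ _ _]
    show avg p m _ _ = avg p m (K (i + j)) _
    congr 2
    show g * (k * z ^ i.val) * g⁻¹ = k * z ^ (i + j).val
    rw [show g * (k * z ^ i.val) * g⁻¹ = g * k * g⁻¹ * (g * z ^ i.val * g⁻¹) by group, hj, ← conj_pow,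
      Subgroup.mem_center_iff.1 hzc g, mul_inv_cancel_right]
    show k * z ^ j.val * z ^ i.val = _
    rw [mul_assoc, ← pow_add, ZMod.val_add, hzmod, add_comm]
  -- fixed points of a shifting element inject into one component
  have hinj : ∀ g : Q, g * k * g⁻¹ ≠ k → ∀ x : V, g • x = x → e 0 x = 0 → x = 0 := by
    intro g hg x hx h0
    obtain ⟨j, hj⟩ := hshift g
    have hj0 : j ≠ 0 := fun e => hg (by rw [hj, e]; simp [K])
    have hall : ∀ n : ℕ, e ((n : ZMod p) * j) x = 0 := by
      intro n
      induction n with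
      | zero => simpa using h0
      | succ n ih =>
        have := hmove g j hj ((n : ZMod p) * j) x
        rw [ih, smul_zero, hx] at this
        rw [Nat.cast_succ, add_mul, one_mul]
        exact this.symm
    rw [← hsum x]
    refine Finset.sum_eq_zero fun i _ => ?_
    have := hall (i / j).val
    rwa [ZMod.natCast_zmod_val, div_mul_cancel₀ _ hj0] at this
  let W := (e 0).range
  have hWfix : ∀ w ∈ W, e 0 w = w := by
    rintro _ ⟨x, rfl⟩
    exact avg_fixed hm (hfixe 0 x)
  obtain ⟨j, hj⟩ := hshift c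
  have hj0 : j ≠ 0 := fun e => hck (by rw [hj, e]; simp [K])
  have hup : Nat.card V ≤ Nat.card W ^ 2 := by
    let Fc := {x : V // c • x = x}
    let Fd := {x : V // d • x = x}
    have hsur : Function.Surjective fun w : Fd × Fc => (w.1.1 + w.2.1 : V) := fun x => by
      obtain ⟨v, h1, h2⟩ := h c hcC d hdD x
      exact ⟨(⟨v, h1⟩, ⟨x - v, h2⟩), add_sub_cancel v x⟩
    refine (Nat.card_le_card_of_surjective _ hsur).trans ?_
    rw [Nat.card_prod, sq]
    have hle : ∀ g : Q, g * k * g⁻¹ ≠ k → Nat.card {x : V // g • x = x} ≤ Nat.card W := fun g hg =>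
      Nat.card_le_card_of_injective (fun x => (⟨e 0 x.1, x.1, rfl⟩ : W)) fun x y hxy => by
        refine Subtype.ext (sub_eq_zero.1 (hinj g hg _ ?_ ?_))
        · rw [smul_sub, x.2, y.2]
        · rw [map_sub, sub_eq_zero]
          exact congrArg Subtype.val hxy
    exact Nat.mul_le_mul (hle d hdk) (hle c hck)
  have hlow : Nat.card W ^ p ≤ Nat.card V := by
    have hcW : ∀ (n : ℕ), ∀ w ∈ W, e ((n : ZMod p) * j) (c ^ n • w) = c ^ n • w := by
      intro n
      induction n with
      | zero => intro w hw; simpa using hWfix w hw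
      | succ n ih =>
        intro w hw
        rw [pow_succ', mul_smul, Nat.cast_succ, add_mul, one_mul, ← hmove c j hj, ih w hw]
    let ψ : (ZMod p → W) → V := fun f => ∑ i, c ^ i.val • (f i : V)
    have hψ : ∀ f i, e (i * j) (ψ f) = c ^ i.val • (f i : V) := by
      intro f i
      rw [map_sum, Finset.sum_eq_single i]
      · have := hcW i.val _ (f i).2
        rwa [ZMod.natCast_zmod_val] at this
      · intro l _ hl
        rw [← hcW l.val _ (f l).2, ZMod.natCast_zmod_val]
        exact horth _ _ _ fun e => hl (mul_right_cancel₀ hj0 e)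
      · simp
    have hψi : Function.Injective ψ := fun f f' hff => funext fun i => Subtype.ext (by
      have := congrArg (e (i * j)) hff
      rw [hψ, hψ] at this
      exact smul_left_cancel _ this)
    have := Nat.card_le_card_of_injective ψ hψi
    rwa [Nat.card_fun, Nat.card_zmod] at this
  have hW2 : Nat.card W ≤ 1 := by
    by_contra hlt
    have := (Nat.pow_lt_pow_right (by omega : 1 < Nat.card W) (show 2 < p by omega)).trans_le hlow
    omega
  refine hV fun x => ?_
  have : Nat.card V ≤ 1 := hup.trans (by nlinarith)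
  have : Subsingleton V := Finite.card_le_one_iff_subsingleton.1 this
  exact Subsingleton.elim _ _

universe u

theorem trivial_of_pairs_aux [hp : Fact p.Prime] (hp3 : 3 ≤ p) {Q : Type*} [Group Q] [Finite Q]
    (hQ : IsPGroup p Q) {C D : Set Q} (hC : Subgroup.closure C = ⊤) (hD : Subgroup.closure D = ⊤) :
    ∀ (n : ℕ) (V : Type u) [AddCommGroup V] [Finite V] [DistribMulAction Q V], Nat.card V ≤ n →
      (Nat.card V).Coprime p → Pairs C D V → ∀ (g : Q) (x : V), g • x = x := by
  intro n
  induction n using Nat.strong_induction_on with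
  | _ n ih =>
    intro V _ _ _ hn hcop h
    classical
    by_cases hsplit : ∀ e : V →+ V, (∀ x, e (e x) = e x) → (∀ (g : Q) x, e (g • x) = g • e x) →
        (∀ x, e x = 0) ∨ ∀ x, e x = x
    · let Φ := MulAction.toPermHom Q V
      let _ : DistribMulAction Φ.range V :=
        { smul := fun g x => (g : Equiv.Perm V) x
          one_smul := fun _ => rfl
          mul_smul := fun _ _ _ => rfl
          smul_zero := fun g => by
            obtain ⟨q, hq⟩ := g.2
            show (g : Equiv.Perm V) 0 = 0
            rw [← hq]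
            exact smul_zero q
          smul_add := fun g x y => by
            obtain ⟨q, hq⟩ := g.2
            show (g : Equiv.Perm V) (x + y) = (g : Equiv.Perm V) x + (g : Equiv.Perm V) y
            rw [← hq]
            exact smul_add q x y }
      have hs : Function.Surjective Φ.rangeRestrict := Φ.rangeRestrict_surjective
      have hsm : ∀ (q : Q) (x : V), Φ.rangeRestrict q • x = q • x := fun _ _ => rfl
      have key := core (Q := Φ.range) (V := V) hp3 (hQ.of_surjective _ hs) hcop
        (fun g hg => Subtype.ext (Equiv.ext hg))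
        (fun e he hc => hsplit e he fun q x => by rw [← hsm, hc, hsm])
        (C := Φ.rangeRestrict '' C) (D := Φ.rangeRestrict '' D)
        (by rw [← MonoidHom.map_closure, hC, Subgroup.map_top_of_surjective _ hs])
        (by rw [← MonoidHom.map_closure, hD, Subgroup.map_top_of_surjective _ hs])
        (by
          rintro _ ⟨c, hc, rfl⟩ _ ⟨d, hd, rfl⟩ x
          simpa only [hsm] using h c hc d hd x)
      intro g x
      rw [← hsm, key (Φ.rangeRestrict g), one_smul]
    push Not at hsplit
    obtain ⟨e, he, hec, ⟨x0, hx0⟩, ⟨y0, hy0⟩⟩ := hsplit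
    have hsub : ∀ f : V →+ V, (∀ x, f (f x) = f x) → (∀ (g : Q) x, f (g • x) = g • f x) →
        (∃ y, f y ≠ y) → ∀ (g : Q) (x : V), g • f x = f x := by
      intro f hf hfc hne g x
      let W : Type u := {v : V // f v = v}
      let S : AddSubgroup V :=
        { carrier := {v | f v = v}
          zero_mem' := map_zero f
          add_mem' := fun {a b} ha hb => by
            show f (a + b) = a + b
            rw [map_add, ha, hb]
          neg_mem' := fun {a} ha => by
            show f (-a) = -a
            rw [map_neg, ha] }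
      let _ : DistribMulAction Q S :=
        { smul := fun g v => ⟨g • (v : V), by
            show f (g • (v : V)) = g • (v : V)
            rw [hfc, v.2]⟩
          one_smul := fun v => Subtype.ext (one_smul _ _)
          mul_smul := fun a b v => Subtype.ext (mul_smul _ _ _)
          smul_zero := fun a => Subtype.ext (smul_zero _)
          smul_add := fun a v w => Subtype.ext (smul_add _ _ _) }
      obtain ⟨y, hy⟩ := hne
      have hlt : Nat.card S < Nat.card V :=
        Finite.card_subtype_lt (p := fun v : V => v ∈ S) (x := y) hy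
      have hcopS : (Nat.card S).Coprime p := hcop.coprime_dvd_left S.card_addSubgroup_dvd_card
      have hpairs : Pairs C D S := by
        intro c hc d hd v
        obtain ⟨w, h1, h2⟩ := h c hc d hd (v : V)
        refine ⟨⟨f w, hf w⟩, Subtype.ext ?_, Subtype.ext ?_⟩
        · show d • f w = f w
          rw [← hfc, h1]
        · show c • ((v : V) - f w) = (v : V) - f w
          rw [← v.2, ← map_sub, ← hfc, h2]
      exact congrArg Subtype.val (ih (Nat.card S) (by omega) S le_rfl hcopS hpairs g ⟨f x, hf x⟩)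
    intro g x
    have h1 := hsub e he hec ⟨y0, hy0⟩ g x
    have h2 := hsub (AddMonoidHom.id V - e) (fun v => by simp [map_sub, he])
      (fun g v => by simp [hec, smul_sub]) ⟨x0, by simpa using hx0⟩ g x
    simp only [AddMonoidHom.sub_apply, AddMonoidHom.id_apply] at h2
    calc g • x = g • e x + g • (x - e x) := by rw [← smul_add, add_sub_cancel]
      _ = x := by rw [h1, h2, add_sub_cancel]

/-- A `p`-group, `p` odd, with two generating sets whose fixed spaces add up to `V`, acts trivially. -/
theorem trivial_of_pairs [Fact p.Prime] (hp3 : 3 ≤ p) [Finite Q] [Finite V] (hQ : IsPGroup p Q)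
    (hcop : (Nat.card V).Coprime p) {C D : Set Q} (hC : Subgroup.closure C = ⊤)
    (hD : Subgroup.closure D = ⊤) (h : Pairs C D V) (g : Q) (x : V) : g • x = x :=
  trivial_of_pairs_aux hp3 hQ hC hD _ V le_rfl hcop h g x

end CfsgLib.FixedPairs
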